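import Groth.Prelude.Def_RegImm
import Groth.Agent.QRFlat.Basic
import Groth.Agent.SymGr.WeaklyReg
import Groth.Agent.QRegLib.Basic

/-!
# Quasi-regular sequences in noetherian rings are regular near their zero locus
-/

set_option autoImplicit false

universe u

open AlgebraicGeometry CategoryTheory RingTheory.Sequence

namespace Groth.Agent.QuasiRegNoeth

theorem quasi_of_regular {R : Type u} [CommRing R] {rs : List R}
    (h : RegImm.Kind.regular.Seq R rs) : RegImm.Kind.quasi.Seq R rs :=
  QRegLib.isQuasiRegular_of_isWeaklyRegular _ rs.get (by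
    rw [List.ofFn_get]; exact (h : RingTheory.Sequence.IsRegular R rs).toIsWeaklyRegular)

/-- spreading out weak regularity from a prime -/
theorem exists_away {R : Type u} [CommRing R] [IsNoetherianRing R] (rs : List R)
    (hq : RegImm.Kind.quasi.Seq R rs) (p : Ideal R) [p.IsPrime] (hp : Ideal.ofList rs ≤ p) :
    ∃ g : R, g ∉ p ∧ ∀ (L : Type u) [CommRing L] [Algebra R L] [IsLocalization.Away g L],
      RegImm.Kind.regular.Seq L (rs.map (algebraMap R L)) := by
  classical
  let P := Localization.AtPrime p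
  let φ := algebraMap R P
  have hP : IsWeaklyRegular P (rs.map φ) := by
    have h := QRFlat.isQuasiRegular_localization (L := P) p.primeCompl (hq : CAlgX.IsQuasiRegular rs.get)
    have h2 := SymGr.isWeaklyRegular_of_isQuasiRegular _ P _ (fun i => ?_) h
    · rwa [show List.ofFn (fun i => algebraMap R P (rs.get i)) = rs.map φ from by
        conv_rhs => rw [← List.ofFn_get rs, List.map_ofFn]
        rfl] at h2
    · have hm : algebraMap R P (rs.get i) ∈ IsLocalRing.maximalIdeal P :=
        (IsLocalization.AtPrime.to_map_mem_maximal_iff P p _).2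
          (hp (Ideal.subset_span (List.get_mem rs i)))
      rw [IsLocalRing.ringJacobson_eq_maximalIdeal]; exact hm
  have hcol : ∀ i : Fin rs.length, ∃ g : R, g ∉ p ∧ ∀ x : R,
      rs[i.1] * x ∈ Ideal.ofList (rs.take i.1) → g * x ∈ Ideal.ofList (rs.take i.1) := by
    intro i
    let J := Ideal.ofList (rs.take i.1)
    let K : Ideal R := Submodule.comap (LinearMap.mulLeft R rs[i.1]) J
    obtain ⟨s, hs⟩ := (IsNoetherian.noetherian K : K.FG)
    have : ∀ x ∈ s, ∃ g : R, g ∉ p ∧ g * x ∈ J := by
      intro x hx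
      have hxK : x ∈ K := hs ▸ Submodule.subset_span hx
      have h1 := hP.regular_mod_prev i.1 (by simp)
      have h2 : φ x ∈ (Ideal.ofList ((rs.map φ).take i.1)) • (⊤ : Submodule P P) := by
        refine (isSMulRegular_quotient_iff_mem_of_smul_mem _ _).1 h1 _ ?_
        rw [smul_eq_mul (α := Ideal P), Ideal.mul_top,
          List.getElem_map, smul_eq_mul, ← map_mul, ← List.map_take, ← Ideal.map_ofList]
        exact Ideal.mem_map_of_mem φ hxK
      rw [smul_eq_mul, Ideal.mul_top, ← List.map_take, ← Ideal.map_ofList] at h2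
      obtain ⟨m, hm, h3⟩ := (IsLocalization.algebraMap_mem_map_algebraMap_iff p.primeCompl P J x).1 h2
      exact ⟨m, hm, h3⟩
    choose! g hg hgx using this
    refine ⟨∏ x ∈ s, g x, fun h => ?_, fun x hx => ?_⟩
    · obtain ⟨x, hx, h'⟩ := (Ideal.IsPrime.prod_mem_iff (p := p)).1 h
      exact hg x hx h'
    · have : K ≤ Submodule.comap (LinearMap.mulLeft R (∏ x ∈ s, g x)) J := by
        rw [← hs, Submodule.span_le]
        intro y hy
        show (∏ x ∈ s, g x) * y ∈ J
        rw [← Finset.prod_erase_mul _ _ hy, mul_assoc]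
        exact J.mul_mem_left _ (hgx y hy)
      exact this hx
  choose g hg hgx using hcol
  refine ⟨∏ i, g i, fun h => ?_, fun L _ _ _ => ?_⟩
  · obtain ⟨i, _, h'⟩ := (Ideal.IsPrime.prod_mem_iff (p := p)).1 h
    exact hg i h'
  have hdisj : Disjoint ((Submonoid.powers (∏ i, g i) : Submonoid R) : Set R) (p : Set R) := by
    rw [Ideal.disjoint_powers_iff_notMem _ (Ideal.IsPrime.isRadical ‹_›)]
    intro h
    obtain ⟨i, _, h'⟩ := (Ideal.IsPrime.prod_mem_iff (p := p)).1 h
    exact hg i h'
  refine ⟨⟨fun i hi => ?_⟩, ?_⟩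
  · rw [List.length_map] at hi
    rw [isSMulRegular_quotient_iff_mem_of_smul_mem]
    intro z hz
    rw [smul_eq_mul, Ideal.mul_top, ← List.map_take, ← Ideal.map_ofList] at hz ⊢
    obtain ⟨⟨a, s⟩, hzs⟩ := IsLocalization.surj (Submonoid.powers (∏ i, g i)) z
    simp only at hzs
    rw [List.getElem_map, smul_eq_mul] at hz
    have h1 : algebraMap R L (rs[i] * a) ∈ (Ideal.ofList (rs.take i)).map (algebraMap R L) := by
      rw [map_mul, ← hzs, ← mul_assoc]
      exact Ideal.mul_mem_right _ _ hz
    obtain ⟨m, hm, h2⟩ :=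
      (IsLocalization.algebraMap_mem_map_algebraMap_iff (Submonoid.powers (∏ i, g i)) L _ _).1 h1
    rw [mul_left_comm] at h2
    have h3 := hgx ⟨i, hi⟩ (m * a) h2
    have h4 : (∏ i, g i) * (m * a) ∈ Ideal.ofList (rs.take i) := by
      rw [← Finset.prod_erase_mul _ _ (Finset.mem_univ (⟨i, hi⟩ : Fin rs.length)), mul_assoc]
      exact Ideal.mul_mem_left _ _ h3
    have h5 : algebraMap R L a ∈ (Ideal.ofList (rs.take i)).map (algebraMap R L) :=
      (IsLocalization.algebraMap_mem_map_algebraMap_iff (Submonoid.powers (∏ i, g i)) L _ _).2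
        ⟨(∏ i, g i) * m, mul_mem (Submonoid.mem_powers _) hm, by rwa [mul_assoc]⟩
    exact (Ideal.mul_unit_mem_iff_mem _ (IsLocalization.map_units L s)).1 (hzs ▸ h5)
  · intro h
    rw [smul_eq_mul, Ideal.mul_top, ← Ideal.map_ofList] at h
    exact (IsLocalization.map_algebraMap_ne_top_iff_disjoint (Submonoid.powers (∏ i, g i)) L _).2
      (Set.disjoint_of_subset_right hp hdisj) h.symm

end Groth.Agent.QuasiRegNoeth
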